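import Mathlib.GroupTheory.Transfer
import Mathlib.GroupTheory.PGroup

/-!
# Transfer at an element centralised by a `p`-group with constant values at its fixed cosets

A `p`-group `D` containing `u` and centralising it permutes the orbits of `⟨u⟩` on the cosets; only the cosets fixed
by `D` contribute, and their number is congruent to the index modulo `p`.
-/

set_option autoImplicit false
set_option linter.unusedSectionVars false
set_option linter.style.haveILetI false

namespace Cfsg.Agent.TransferFixed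

open Subgroup MulAction

universe u

/-- A product invariant under a `p`-group, with values of exponent `p`, is the product over the fixed points. -/
theorem prod_eq_fixed {p : ℕ} [Fact p.Prime] {D Ω A : Type*} [Group D] [MulAction D Ω] [Fintype Ω]
    [DecidableEq Ω] [CommGroup A] [DecidablePred fun ω : Ω => ∀ d : D, d • ω = ω] (hA : ∀ a : A, a ^ p = 1)
    (hD : IsPGroup p D) (f : Ω → A) (hinv : ∀ (d : D) ω, f (d • ω) = f ω) :
    ∏ ω, f ω = ∏ ω ∈ Finset.univ.filter (fun ω => ∀ d : D, d • ω = ω), f ω := by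
  classical
  rw [← Finset.prod_filter_mul_prod_filter_not Finset.univ (fun ω => ∀ d : D, d • ω = ω) f]
  refine mul_eq_left.2 ?_
  rw [← Finset.prod_fiberwise (Finset.univ.filter fun ω : Ω => ¬ ∀ d : D, d • ω = ω)
    (fun ω => (Quotient.mk'' ω : orbitRel.Quotient D Ω)) f]
  refine Finset.prod_eq_one fun q _ => ?_
  induction q using Quotient.inductionOn' with
  | h w =>
    set T := (Finset.univ.filter fun ω : Ω => ¬ ∀ d : D, d • ω = ω).filter
      (fun ω => (Quotient.mk'' ω : orbitRel.Quotient D Ω) = Quotient.mk'' w) with hT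
    have hfw : ∀ ω ∈ T, f ω = f w := fun ω hω => by
      obtain ⟨d, hd⟩ := Quotient.eq''.1 (Finset.mem_filter.1 hω).2
      rw [← hd]
      exact hinv d w
    rw [Finset.prod_congr rfl hfw, Finset.prod_const]
    by_cases hw : ∀ d : D, d • w = w
    · have h0 : T = ∅ := Finset.eq_empty_of_forall_notMem fun ω hω => by
        obtain ⟨hω', hq⟩ := Finset.mem_filter.1 hω
        obtain ⟨d, hd⟩ := Quotient.eq''.1 hq
        exact (Finset.mem_filter.1 hω').2 (by rw [← hd]; show ∀ e : D, e • d • w = d • w; rw [hw d]; exact hw)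
      rw [h0, Finset.card_empty, pow_zero]
    · obtain ⟨k, hk⟩ := hD.card_orbit w
      have h1 : T = (orbit D w).toFinset := by
        ext ω
        simp only [hT, Finset.mem_filter, Finset.mem_univ, true_and, Set.mem_toFinset]
        refine ⟨fun h => Quotient.eq''.1 h.2, fun h => ⟨fun hω => hw ?_, Quotient.eq''.2 h⟩⟩
        obtain ⟨e, rfl⟩ := h
        intro d
        have := hω (e * d * e⁻¹)
        rw [mul_smul, mul_smul, inv_smul_smul] at this
        exact MulAction.injective e this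
      have h2 : T.card = p ^ k := by rw [h1, Set.toFinset_card, ← Nat.card_eq_fintype_card, hk]
      obtain ⟨j, rfl⟩ : ∃ j, k = j + 1 := by
        refine ⟨k - 1, ?_⟩
        rcases Nat.eq_zero_or_pos k with rfl | hk0
        · exfalso
          refine hw fun d => ?_
          rw [pow_zero, Nat.card_eq_one_iff_unique] at hk
          exact congrArg Subtype.val (hk.1.elim ⟨d • w, mem_orbit w d⟩ ⟨w, mem_orbit_self w⟩)
        · omega
      rw [h2, pow_succ, pow_mul, hA]

variable {G : Type u} [Group G] [Finite G]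

/-- The transfer from `N` at an element `u` of `N` centralised by a `p`-group `D` containing `u`, when the value is the
same at every fixed point of `D`. -/
theorem transfer_eq_pow {p : ℕ} [Fact p.Prime] {A : Type*} [CommGroup A] (hA : ∀ a : A, a ^ p = 1)
    {N D : Subgroup G} (hD : IsPGroup p ↥D) (φ : ↥N →* A) {u : G} (hu : u ∈ N) (huD : u ∈ D) (hup : u ^ p = 1)
    (hcomm : ∀ d ∈ D, Commute d u)
    (hfix : ∀ g : G, (∀ d ∈ D, g⁻¹ * d * g ∈ N) → ∀ h : g⁻¹ * u * g ∈ N, φ ⟨_, h⟩ = φ ⟨u, hu⟩) :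
    φ.transfer u = φ ⟨u, hu⟩ ^ N.index := by
  classical
  haveI : Fintype (Quotient (orbitRel (zpowers u) (G ⧸ N))) := Fintype.ofFinite _
  rw [MonoidHom.transfer_eq_prod_quotient_orbitRel_zpowers_quot]
  set Ω := Quotient (orbitRel (zpowers u) (G ⧸ N))
  set f : Ω → A := fun q => φ ⟨q.out.out⁻¹ * u ^ Function.minimalPeriod (u • ·) q.out * q.out.out,
    QuotientGroup.out_conj_pow_minimalPeriod_mem N u q.out⟩ with hf
  -- the value does not depend on the representative
  have key : ∀ (x g n : G) (m : ℕ), Commute x u → n ∈ N →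
      ∀ (h : g⁻¹ * u ^ m * g ∈ N) (h' : (x * g * n)⁻¹ * u ^ m * (x * g * n) ∈ N),
      φ ⟨_, h'⟩ = φ ⟨_, h⟩ := by
    intro x g n m hx hn h h'
    have e : (⟨_, h'⟩ : ↥N) = ⟨n, hn⟩⁻¹ * ⟨_, h⟩ * ⟨n, hn⟩ := Subtype.ext (by
      show (x * g * n)⁻¹ * u ^ m * (x * g * n) = n⁻¹ * (g⁻¹ * u ^ m * g) * n
      calc (x * g * n)⁻¹ * u ^ m * (x * g * n) = n⁻¹ * g⁻¹ * (x⁻¹ * (u ^ m * x)) * g * n := by group
        _ = _ := by rw [← (hx.pow_right m).eq]; group)
    rw [e, map_mul, map_mul, map_inv, mul_comm (φ ⟨n, hn⟩)⁻¹, inv_mul_cancel_right]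
  have hval : ∀ (ω : Ω) (g : G), (Quotient.mk'' (g : G ⧸ N) : Ω) = ω →
      ∃ x : G, x ∈ zpowers u ∧ ∃ n ∈ N, ω.out.out = x * g * n := by
    intro ω g hg
    obtain ⟨⟨x, hx⟩, hxe⟩ := Quotient.eq''.1 ((Quotient.out_eq' ω).trans hg.symm)
    refine ⟨x, hx, (x * g)⁻¹ * ω.out.out, ?_, by group⟩
    refine QuotientGroup.eq.1 ?_
    rw [QuotientGroup.out_eq', ← hxe]
    rfl
  have hper : ∀ (x : G), Commute x u → ∀ a : G ⧸ N,
      Function.minimalPeriod (u • ·) (x • a) = Function.minimalPeriod (u • ·) a := by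
    intro x hx a
    have h1 : ∀ n : ℕ, u ^ n • (x • a) = x • a ↔ u ^ n • a = a := fun n => by
      rw [smul_smul, ← (hx.pow_right n).eq, ← smul_smul]
      exact ⟨fun e => MulAction.injective x e, fun e => by rw [e]⟩
    refine Nat.dvd_antisymm ?_ ?_
    · exact pow_smul_eq_iff_minimalPeriod_dvd.1 ((h1 _).2 (pow_smul_eq_iff_minimalPeriod_dvd.2 dvd_rfl))
    · exact pow_smul_eq_iff_minimalPeriod_dvd.1 ((h1 _).1 (pow_smul_eq_iff_minimalPeriod_dvd.2 dvd_rfl))
  -- the action of `D` on the orbits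
  have hmap : ∀ d : ↥D, ∀ a b : G ⧸ N, orbitRel (zpowers u) (G ⧸ N) a b →
      orbitRel (zpowers u) (G ⧸ N) ((d : G) • a) ((d : G) • b) := by
    rintro d a b ⟨⟨x, hx⟩, hxe⟩
    obtain ⟨k, rfl⟩ := mem_zpowers_iff.1 hx
    refine ⟨⟨u ^ k, hx⟩, ?_⟩
    show u ^ k • ((d : G) • b) = (d : G) • a
    rw [← hxe, smul_smul, ← ((hcomm _ d.2).zpow_right k).eq, ← smul_smul]
    rfl
  letI : MulAction ↥D Ω :=
    { smul := fun d => Quotient.map' (fun a => (d : G) • a) (hmap d)
      one_smul := fun ω => Quotient.inductionOn' ω fun a => congrArg Quotient.mk'' (one_smul G a)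
      mul_smul := fun d d' ω => Quotient.inductionOn' ω fun a =>
        congrArg Quotient.mk'' (mul_smul (d : G) d' a) }
  have hsm : ∀ (d : ↥D) (g : G), d • (Quotient.mk'' (g : G ⧸ N) : Ω) =
      Quotient.mk'' (((d : G) * g : G) : G ⧸ N) := fun _ _ => rfl
  have hperiod : ∀ (ω : Ω) (g : G), (Quotient.mk'' (g : G ⧸ N) : Ω) = ω →
      Function.minimalPeriod (u • ·) ω.out = Function.minimalPeriod (u • ·) (g : G ⧸ N) := by
    intro ω g hg
    obtain ⟨x, hx, n, hn, e⟩ := hval ω g hg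
    obtain ⟨k, rfl⟩ := mem_zpowers_iff.1 hx
    rw [show ω.out = (u ^ k) • (g : G ⧸ N) by
      rw [← QuotientGroup.out_eq' ω.out, e]
      exact QuotientGroup.eq.2 (by
        show (u ^ k * g * n)⁻¹ * (u ^ k * g) ∈ N
        rw [show (u ^ k * g * n)⁻¹ * (u ^ k * g) = n⁻¹ by group]; exact inv_mem hn),
      hper _ (Commute.zpow_left (Commute.refl u) k)]
  have hfval : ∀ (q : Ω) (g : G) (m : ℕ), q.out.out = g → Function.minimalPeriod (u • ·) q.out = m →
      ∀ h : g⁻¹ * u ^ m * g ∈ N, f q = φ ⟨_, h⟩ := by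
    intro q g m e1 e2 h
    subst e1 e2
    rfl
  have hfinv : ∀ (d : ↥D) (ω : Ω), f (d • ω) = f ω := by
    intro d ω
    have hω : (Quotient.mk'' ((ω.out.out : G) : G ⧸ N) : Ω) = ω := by
      rw [QuotientGroup.out_eq', Quotient.out_eq']
    have hdω : (Quotient.mk'' ((((d : G) * ω.out.out) : G) : G ⧸ N) : Ω) = d • ω := by
      rw [← hsm, hω]
    obtain ⟨x, hx, n, hn, e⟩ := hval _ _ hdω
    obtain ⟨k, rfl⟩ := mem_zpowers_iff.1 hx
    have hm : Function.minimalPeriod (u • ·) (d • ω).out = Function.minimalPeriod (u • ·) ω.out := by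
      rw [hperiod _ _ hdω, show (((d : G) * ω.out.out : G) : G ⧸ N) = (d : G) • ω.out by
        conv_rhs => rw [← QuotientGroup.out_eq' ω.out]
        rfl, hper _ (hcomm _ d.2)]
    have e2 : (d • ω).out.out = u ^ k * d * ω.out.out * n := by rw [e]; group
    have h' : (u ^ k * d * ω.out.out * n)⁻¹ * u ^ Function.minimalPeriod (u • ·) ω.out *
        (u ^ k * d * ω.out.out * n) ∈ N := by
      rw [← e2, ← hm]
      exact QuotientGroup.out_conj_pow_minimalPeriod_mem N u _
    rw [hfval _ _ _ e2 hm h', key (u ^ k * d) ω.out.out n _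
      ((Commute.zpow_left (Commute.refl u) k).mul_left (hcomm _ d.2)) hn
      (QuotientGroup.out_conj_pow_minimalPeriod_mem N u ω.out) h']
  set c := φ ⟨u, hu⟩ with hc
  set Fix : Finset Ω := Finset.univ.filter (fun ω => ∀ d : ↥D, d • ω = ω) with hFix
  have hprod : ∏ ω, f ω = ∏ ω ∈ Fix, f ω := prod_eq_fixed hA hD f hfinv
  have hperp : ∀ g : G, Function.minimalPeriod (u • ·) (g : G ⧸ N) = 1 ∨
      Function.minimalPeriod (u • ·) (g : G ⧸ N) = p := fun g =>
    (Nat.dvd_prime (Fact.out : p.Prime)).1 (pow_smul_eq_iff_minimalPeriod_dvd.1 (by rw [hup, one_smul]))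
  -- the fixed orbits of length one are the fixed cosets
  set One : Finset Ω := Fix.filter (fun ω => Function.minimalPeriod (u • ·) ω.out = 1) with hOne
  have hrest : ∏ ω ∈ Fix, f ω = ∏ ω ∈ One, f ω := by
    refine (Finset.prod_filter_of_ne fun ω _ hne => ?_).symm
    set g := ω.out.out with hg
    have hωg : (g : G ⧸ N) = ω.out := QuotientGroup.out_eq' _
    rcases hperp g with e | e <;> rw [hωg] at e
    · exact e
    · exfalso
      refine hne ?_
      have h0 : g⁻¹ * u ^ p * g ∈ N := by rw [hup, mul_one, inv_mul_cancel]; exact N.one_mem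
      rw [hfval ω g p rfl e h0]
      exact (congrArg φ (Subtype.ext (by
        show g⁻¹ * u ^ p * g = 1
        rw [hup, mul_one, inv_mul_cancel]))).trans (map_one φ)
  have hcos : ∀ ω ∈ One, ∀ d : ↥D, (d : G) • ω.out = ω.out := by
    intro ω hω d
    obtain ⟨hω', h1⟩ := Finset.mem_filter.1 hω
    obtain ⟨-, hfx⟩ := Finset.mem_filter.1 hω'
    have hu1 : u • ω.out = ω.out := Function.minimalPeriod_eq_one_iff_isFixedPt.1 h1
    have h2 : (Quotient.mk'' ((d : G) • ω.out) : Ω) = Quotient.mk'' ω.out := by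
      refine Eq.trans ?_ (Quotient.out_eq' ω).symm
      conv_rhs => rw [← hfx d, ← Quotient.out_eq' ω]
      rfl
    obtain ⟨⟨x, hx⟩, hxe⟩ := Quotient.eq''.1 h2
    rw [← show x • ω.out = (d : G) • ω.out from hxe]
    exact (zpowers_le.2 (MulAction.mem_stabilizer_iff.2 hu1) : zpowers u ≤ stabilizer G ω.out) hx
  have hval1 : ∀ ω ∈ One, f ω = c := by
    intro ω hω
    set g := ω.out.out with hg
    have hωg : (g : G ⧸ N) = ω.out := QuotientGroup.out_eq' _
    have hd : ∀ d ∈ D, g⁻¹ * d * g ∈ N := fun d hd => by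
      have h1 := hcos ω hω ⟨d, hd⟩
      rw [← hωg] at h1
      have h2 : ((d * g : G) : G ⧸ N) = g := h1
      have h3 := QuotientGroup.eq.1 h2.symm
      rwa [← mul_assoc] at h3
    have h1 : g⁻¹ * u ^ 1 * g ∈ N := by rw [pow_one]; exact hd u huD
    rw [hfval ω g 1 rfl (Finset.mem_filter.1 hω).2 h1]
    refine (congrArg φ (Subtype.ext (by
      show g⁻¹ * u ^ 1 * g = g⁻¹ * u * g
      rw [pow_one]))).trans (hfix g hd (hd u huD))
  have hcard : One.card = Nat.card (fixedPoints ↥D (G ⧸ N)) := by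
    rw [← Nat.card_eq_finsetCard]
    refine Nat.card_congr (Equiv.ofBijective
      (fun ω => ⟨(ω : Ω).out, fun d => hcos ω ω.2 d⟩) ⟨fun v w e => ?_, fun a => ?_⟩)
    · exact Subtype.ext (Quotient.out_injective (congrArg Subtype.val e))
    · have hua : ∀ k : ℤ, u ^ k • (a : G ⧸ N) = a := fun k => a.2 ⟨u ^ k, zpow_mem huD k⟩
      set ω : Ω := Quotient.mk'' (a : G ⧸ N) with hω
      have hout : ω.out = a := by
        obtain ⟨⟨x, hx⟩, hxe⟩ := Quotient.eq''.1 (Quotient.out_eq' ω)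
        obtain ⟨k, rfl⟩ := mem_zpowers_iff.1 hx
        rw [← show u ^ k • (a : G ⧸ N) = ω.out from hxe, hua]
      refine ⟨⟨ω, Finset.mem_filter.2 ⟨Finset.mem_filter.2 ⟨Finset.mem_univ _, fun d => ?_⟩, ?_⟩⟩,
        Subtype.ext hout⟩
      · exact congrArg Quotient.mk'' (a.2 d)
      · rw [hout, Function.minimalPeriod_eq_one_iff_isFixedPt]
        show u • (a : G ⧸ N) = a
        simpa using hua 1
  refine (Eq.trans (by convert rfl) ((hprod.trans hrest).trans ((Finset.prod_congr rfl hval1).trans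
    (Finset.prod_const c)))).trans ?_
  have hmod := hD.card_modEq_card_fixedPoints (G ⧸ N)
  rw [hcard, index_eq_card, pow_eq_pow_mod _ (hA c), ← hmod, ← pow_eq_pow_mod _ (hA c)]

/-- A normal subgroup of index `p` by that transfer, when the index of `N` is prime to `p`; its meet with `N` is the
kernel of the restricted transfer. -/
theorem exists_index_prime {p : ℕ} [Fact p.Prime] {A : Type*} [CommGroup A] [Finite A] (hA : Nat.card A = p)
    {N D : Subgroup G} (hD : IsPGroup p ↥D) (φ : ↥N →* A) (hidx : ¬ p ∣ N.index) {u : G} (hu : u ∈ N)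
    (hne : φ ⟨u, hu⟩ ≠ 1) (huD : u ∈ D) (hup : u ^ p = 1) (hcomm : ∀ d ∈ D, Commute d u)
    (hfix : ∀ g : G, (∀ d ∈ D, g⁻¹ * d * g ∈ N) → ∀ h : g⁻¹ * u * g ∈ N, φ ⟨_, h⟩ = φ ⟨u, hu⟩) :
    ∃ M : Subgroup G, M.Normal ∧ M.index = p ∧ u ∉ M ∧ ⁅(⊤ : Subgroup G), ⊤⁆ ≤ M := by
  have hA' : ∀ a : A, a ^ p = 1 := fun a => hA ▸ pow_card_eq_one'
  set V := φ.transfer with hV
  have hu' : V u ≠ 1 := by
    rw [hV, transfer_eq_pow hA' hD φ hu huD hup hcomm hfix]
    intro e
    have h1 := orderOf_eq_prime (hA' (φ ⟨u, hu⟩)) hne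
    exact hidx (h1 ▸ orderOf_dvd_of_pow_eq_one e)
  refine ⟨V.ker, inferInstance, ?_, fun h => hu' h, commutator_le.2 fun g _ h _ => ?_⟩
  · rw [index_ker]
    rcases (Nat.dvd_prime (Fact.out : p.Prime)).1 (hA ▸ card_subgroup_dvd_card V.range) with e | e
    · exfalso
      rw [Subgroup.card_eq_one] at e
      exact hu' (Subgroup.mem_bot.1 (e.le (Set.mem_range_self u)))
    · exact e
  · rw [MonoidHom.mem_ker, map_commutatorElement, commutatorElement_eq_one_iff_mul_comm]
    exact mul_comm _ _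

end Cfsg.Agent.TransferFixed
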